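import Cfsg.Agent.Lib.Helper12.HeZ.ChkDefs

/-! checks of the generators of the centralizer: the action on the orbit (generated, helper12) -/

set_option autoImplicit false
set_option maxRecDepth 100000
set_option Elab.async false

namespace Cfsg.Agent.Lib.Helper12.HeZ

open Cfsg.Agent.Lib.Helper12.TC Cfsg.Agent.Lib.Helper12.TC.Hex4116

theorem hpt : ptSortedK = true := by decide +kernel

theorem hfix : fixK TT 3 4116 fixL = true := by decide +kernel

theorem hcompat0 : compatK TT (genW.getD 0 []) 0 1 = true := by decide +kernel

theorem hcompat1 : compatK TT (genW.getD 1 []) 0 2 = true := by decide +kernel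

theorem hcompat2 : compatK TT (genW.getD 2 []) 0 3 = true := by decide +kernel

theorem hcompat3 : compatK TT (genW.getD 3 []) 0 4 = true := by decide +kernel

theorem hcompat4 : compatK TT (genW.getD 4 []) 2 1 = true := by decide +kernel

theorem hcompat5 : compatK TT (genW.getD 5 []) 3 1 = true := by decide +kernel

theorem hcompat6 : compatK TT (genW.getD 6 []) 4 1 = true := by decide +kernel

theorem hcompat7 : compatK TT (genW.getD 7 []) 2 3 = true := by decide +kernel

theorem hcompat8 : compatK TT (genW.getD 8 []) 2 4 = true := by decide +kernel

theorem hcompat9 : compatK TT (genW.getD 9 []) 3 2 = true := by decide +kernel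

theorem hcompat10 : compatK TT (genW.getD 10 []) 3 4 = true := by decide +kernel

theorem hcompat11 : compatK TT (genW.getD 11 []) 4 2 = true := by decide +kernel

theorem hcompat12 : compatK TT (genW.getD 12 []) 4 3 = true := by decide +kernel

end Cfsg.Agent.Lib.Helper12.HeZ
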