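import Cfsg.Agent.Lib.Helper12.HeZ.ChkDefs
import Cfsg.Agent.Lib.Helper12.HeZ.ConjData1

/-! checks of the conjugates of the involution, file 1 (generated, helper12) -/

set_option autoImplicit false
set_option maxRecDepth 100000
set_option Elab.async false

namespace Cfsg.Agent.Lib.Helper12.HeZ

open Cfsg.Agent.Lib.Helper12.TC Cfsg.Agent.Lib.Helper12.TC.Hex4116

theorem hconj3 : conjChk TT 2171105 conjU3 1376380 = true := by decide +kernel

theorem hconj4 : conjChk TT 2986370 conjU4 2171105 = true := by decide +kernel

theorem hconj5 : conjChk TT 3747936 conjU5 2986370 = true := by decide +kernel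

end Cfsg.Agent.Lib.Helper12.HeZ
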