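import Cfsg.Agent.Lib.Helper12.HeZ.ChkB0
import Cfsg.Agent.Lib.Helper12.HeZ.ChkB1
import Cfsg.Agent.Lib.Helper12.HeZ.ChkB2
import Cfsg.Agent.Lib.Helper12.HeZ.ChkB3
import Cfsg.Agent.Lib.Helper12.HeZ.ChkB4

/-! checks of the conjugates of the involution, all parts (generated, helper12) -/

set_option autoImplicit false
set_option maxRecDepth 100000

namespace Cfsg.Agent.Lib.Helper12.HeZ

open Cfsg.Agent.Lib.Helper12.TC Cfsg.Agent.Lib.Helper12.TC.Hex4116

/-- the parts with their upper bounds -/
def conjParts : List (ℕ × List (List ℕ)) := [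
  (177045, conjU0),
  (639832, conjU1),
  (1376380, conjU2),
  (2171105, conjU3),
  (2986370, conjU4),
  (3747936, conjU5),
  (4747483, conjU6),
  (5595112, conjU7),
  (6631410, conjU8),
  (7228267, conjU9),
  (8600432, conjU10),
  (9107213, conjU11),
  (9666420, conjU12),
  (10636806, conjU13),
  (11197987, conjU14)]

/-- all conjugating words -/
def conjAll : List (List ℕ) := conjParts.flatMap (fun c => c.2)

theorem hconjAll : ChkAll TT conjParts 0 :=
  ⟨hconj0, hconj1, hconj2, hconj3, hconj4, hconj5, hconj6, hconj7, hconj8, hconj9, hconj10, hconj11, hconj12, hconj13, hconj14, trivial⟩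

theorem hconjLen : conjAll.length = 3825 := by decide +kernel

end Cfsg.Agent.Lib.Helper12.HeZ
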