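import Cfsg.Agent.Lib.Helper12.HeZ.ChkDefs
import Cfsg.Agent.Lib.Helper12.HeZ.ConjData0

/-! checks of the conjugates of the involution, file 0 (generated, helper12) -/

set_option autoImplicit false
set_option maxRecDepth 100000
set_option Elab.async false

namespace Cfsg.Agent.Lib.Helper12.HeZ

open Cfsg.Agent.Lib.Helper12.TC Cfsg.Agent.Lib.Helper12.TC.Hex4116

theorem hconj0 : conjChk TT 177045 conjU0 0 = true := by decide +kernel

theorem hconj1 : conjChk TT 639832 conjU1 177045 = true := by decide +kernel

theorem hconj2 : conjChk TT 1376380 conjU2 639832 = true := by decide +kernel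

end Cfsg.Agent.Lib.Helper12.HeZ
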