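import Cfsg.Agent.Lib.Helper12.HeZ.ChkDefs

/-! checks of the generators of the centralizer: they commute with the involution, part 1 (generated, helper12) -/

set_option autoImplicit false
set_option maxRecDepth 100000
set_option Elab.async false

namespace Cfsg.Agent.Lib.Helper12.HeZ

open Cfsg.Agent.Lib.Helper12.TC Cfsg.Agent.Lib.Helper12.TC.Hex4116

theorem hcomm0_1 : Fn.eqWordsK TT (genW.getD 0 [] ++ [3]) (3 :: genW.getD 0 []) 1029 1029 = true := by
  decide +kernel

theorem hcomm1_1 : Fn.eqWordsK TT (genW.getD 1 [] ++ [3]) (3 :: genW.getD 1 []) 1029 1029 = true := by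
  decide +kernel

theorem hcomm2_1 : Fn.eqWordsK TT (genW.getD 2 [] ++ [3]) (3 :: genW.getD 2 []) 1029 1029 = true := by
  decide +kernel

theorem hcomm3_1 : Fn.eqWordsK TT (genW.getD 3 [] ++ [3]) (3 :: genW.getD 3 []) 1029 1029 = true := by
  decide +kernel

theorem hcomm4_1 : Fn.eqWordsK TT (genW.getD 4 [] ++ [3]) (3 :: genW.getD 4 []) 1029 1029 = true := by
  decide +kernel

theorem hcomm5_1 : Fn.eqWordsK TT (genW.getD 5 [] ++ [3]) (3 :: genW.getD 5 []) 1029 1029 = true := by
  decide +kernel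

theorem hcomm6_1 : Fn.eqWordsK TT (genW.getD 6 [] ++ [3]) (3 :: genW.getD 6 []) 1029 1029 = true := by
  decide +kernel

theorem hcomm7_1 : Fn.eqWordsK TT (genW.getD 7 [] ++ [3]) (3 :: genW.getD 7 []) 1029 1029 = true := by
  decide +kernel

theorem hcomm8_1 : Fn.eqWordsK TT (genW.getD 8 [] ++ [3]) (3 :: genW.getD 8 []) 1029 1029 = true := by
  decide +kernel

theorem hcomm9_1 : Fn.eqWordsK TT (genW.getD 9 [] ++ [3]) (3 :: genW.getD 9 []) 1029 1029 = true := by
  decide +kernel

theorem hcomm10_1 : Fn.eqWordsK TT (genW.getD 10 [] ++ [3]) (3 :: genW.getD 10 []) 1029 1029 = true := by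
  decide +kernel

theorem hcomm11_1 : Fn.eqWordsK TT (genW.getD 11 [] ++ [3]) (3 :: genW.getD 11 []) 1029 1029 = true := by
  decide +kernel

theorem hcomm12_1 : Fn.eqWordsK TT (genW.getD 12 [] ++ [3]) (3 :: genW.getD 12 []) 1029 1029 = true := by
  decide +kernel

end Cfsg.Agent.Lib.Helper12.HeZ
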