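import Cfsg.Agent.Lib.Helper12.HeZ.Data
import Cfsg.Agent.Lib.Helper12.TC.Hex4116.Tab
import Cfsg.Agent.Lib.Helper12.TC.Fn.LowerParts

/-!
Checks by evaluation, definitions: the centralizer of the involution `d` of the Held group acts on an orbit
of 2688 points as the centralizer of a transvection of `SL(5, 2)` acts on pairs of vectors; conjugates of
`d` in a point stabilizer (helper12).
-/

set_option autoImplicit false
set_option maxRecDepth 100000

namespace Cfsg.Agent.Lib.Helper12.HeZ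

open Cfsg.Agent.Lib.Helper12.TC

/-- the `i`-th point of the orbit -/
def ptAt (i : ℕ) : ℕ := Nat.land (Nat.shiftRight ptN (Nat.mul 13 i)) 8191

/-- the index of the point `q` in the orbit -/
def idxAt (q : ℕ) : ℕ := Nat.land (Nat.shiftRight idxN (Nat.mul 12 q)) 4095

/-- the first vector of the `i`-th pair -/
def xaAt (i : ℕ) : ℕ := Nat.land (Nat.shiftRight vecN (Nat.mul 10 i)) 31

/-- the second vector of the `i`-th pair -/
def xbAt (i : ℕ) : ℕ := Nat.land (Nat.shiftRight vecN (Nat.add (Nat.mul 10 i) 5)) 31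

/-- the bit `b` of `x` -/
def bitK (x b : ℕ) : Bool := Nat.beq (Nat.land (Nat.shiftRight x b) 1) 1

/-- the transvection `1 + E_ab` on a vector given by its bits -/
def tvN (a b x : ℕ) : ℕ := cond (bitK x b) (Nat.xor x (Nat.shiftLeft 1 a)) x

/-- the check of one point -/
def compatOne (TT : ℕ → ℕ → ℕ) (w : List ℕ) (a b i : ℕ) : Bool :=
  forceN (Fn.applyW TT w (ptAt i)) fun q => forceN (idxAt q) fun j =>
    (Nat.blt j 2688 && Nat.beq (ptAt j) q) &&
      ((Nat.beq (tvN a b (xaAt i)) (xaAt j) && Nat.beq (tvN a b (xbAt i)) (xbAt j)) ||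
        (Nat.beq (tvN a b (xaAt i)) (xbAt j) && Nat.beq (tvN a b (xbAt i)) (xaAt j)))

/-- the check of all points -/
def compatK (TT : ℕ → ℕ → ℕ) (w : List ℕ) (a b : ℕ) : Bool :=
  allBelowK 2688 (compatOne TT w a b)

theorem compatK_spec {TT : ℕ → ℕ → ℕ} {w : List ℕ} {a b : ℕ} (h : compatK TT w a b = true)
    (i : ℕ) (hi : i < 2688) :
    ∃ j < 2688, ptAt j = Fn.applyW TT w (ptAt i) ∧
      ((tvN a b (xaAt i) = xaAt j ∧ tvN a b (xbAt i) = xbAt j) ∨
        (tvN a b (xaAt i) = xbAt j ∧ tvN a b (xbAt i) = xaAt j)) := by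
  have h1 := (allBelowK_iff 2688 _).mp h i hi
  unfold compatOne at h1
  rw [forceN_eq, forceN_eq] at h1
  simp only [Bool.and_eq_true, Bool.or_eq_true] at h1
  obtain ⟨⟨h2, h3⟩, h4⟩ := h1
  refine ⟨idxAt (Fn.applyW TT w (ptAt i)), Nat.le_of_ble_eq_true h2, Nat.eq_of_beq_eq_true h3, ?_⟩
  rcases h4 with ⟨h5, h6⟩ | ⟨h5, h6⟩
  · exact Or.inl ⟨Nat.eq_of_beq_eq_true h5, Nat.eq_of_beq_eq_true h6⟩
  · exact Or.inr ⟨Nat.eq_of_beq_eq_true h5, Nat.eq_of_beq_eq_true h6⟩

/-- the points of the orbit are increasing and below `4116` -/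
def ptSortedK : Bool :=
  allBelowK 2687 (fun i => Nat.blt (ptAt i) (ptAt (Nat.succ i))) && Nat.blt (ptAt 2687) 4116

theorem ptAt_lt_of_lt (h : ptSortedK = true) {i j : ℕ} (hij : i < j) (hj : j < 2688) :
    ptAt i < ptAt j := by
  unfold ptSortedK at h
  rw [Bool.and_eq_true] at h
  have h1 : ∀ k < 2687, ptAt k < ptAt (k + 1) := fun k hk =>
    Nat.le_of_ble_eq_true ((allBelowK_iff 2687 _).mp h.1 k hk)
  induction j with
  | zero => omega
  | succ j ih =>
    rcases Nat.lt_or_ge i j with h2 | h2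
    · exact lt_trans (ih h2 (by omega)) (h1 j (by omega))
    · have : i = j := by omega
      subst this
      exact h1 i (by omega)

theorem ptAt_lt (h : ptSortedK = true) {i : ℕ} (hi : i < 2688) : ptAt i < 4116 := by
  have h0 := h
  unfold ptSortedK at h
  rw [Bool.and_eq_true] at h
  have h2 : ptAt 2687 < 4116 := Nat.le_of_ble_eq_true h.2
  rcases Nat.lt_or_ge i 2687 with h3 | h3
  · exact lt_trans (ptAt_lt_of_lt h0 h3 (by omega)) h2
  · have : i = 2687 := by omega
    subst this
    exact h2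

/-- membership in a list of numbers -/
def elemN (l : List ℕ) (a : ℕ) : Bool :=
  @List.rec ℕ (fun _ => Bool) false (fun b _ ih => cond (Nat.beq a b) true ih) l

theorem elemN_iff (l : List ℕ) (a : ℕ) : elemN l a = true ↔ a ∈ l := by
  induction l with
  | nil => exact ⟨fun h => Bool.noConfusion h, fun h => absurd h List.not_mem_nil⟩
  | cons b l ih =>
    have e : elemN (b :: l) a = cond (Nat.beq a b) true (elemN l a) := rfl
    rw [e, List.mem_cons]
    by_cases hab : a = b
    · subst hab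
      simp
    · have : Nat.beq a b = false := by
        cases h : Nat.beq a b
        · rfl
        · exact absurd (Nat.eq_of_beq_eq_true h) hab
      rw [this]
      simp [hab, ih]

/-- the fixed points of the generator `x` are in the list `l` -/
def fixK (TT : ℕ → ℕ → ℕ) (x N : ℕ) (l : List ℕ) : Bool :=
  allBelowK N (fun i => cond (Nat.beq (TT x i) i) (elemN l i) true)

theorem fixK_spec {TT : ℕ → ℕ → ℕ} {x N : ℕ} {l : List ℕ} (h : fixK TT x N l = true) (i : ℕ)
    (hi : i < N) (hf : TT x i = i) : i ∈ l := by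
  have h1 := (allBelowK_iff N _).mp h i hi
  have h2 : Nat.beq (TT x i) i = true := by rw [hf]; exact Nat.beq_refl i
  rw [h2] at h1
  exact (elemN_iff l i).mp h1

/-- the word of the conjugate of `d` by the word `u` -/
def conjW (u : List ℕ) : List ℕ := u.reverse ++ 3 :: u

/-- the images of two points under a conjugate, as one number -/
def codeOf (TT : ℕ → ℕ → ℕ) (u : List ℕ) : ℕ :=
  Nat.add (Nat.mul 4116 (Fn.applyW TT (conjW u) 1)) (Fn.applyW TT (conjW u) 50)

/-- the conjugates fix the point `0` and have increasing codes in `[lo, hi)` -/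
def conjChk (TT : ℕ → ℕ → ℕ) (hi : ℕ) (l : List (List ℕ)) : ℕ → Bool :=
  @List.rec (List ℕ) (fun _ => ℕ → Bool) (fun lo => Nat.ble lo hi)
    (fun u _ ih lo => forceN (codeOf TT u) fun c =>
      cond (Nat.ble lo c && Nat.beq (Fn.applyW TT (conjW u) 0) 0) (ih (Nat.succ c)) false) l

theorem conjChk_spec (TT : ℕ → ℕ → ℕ) (hi : ℕ) : ∀ (l : List (List ℕ)) (lo : ℕ),
    conjChk TT hi l lo = true →
    (∀ u ∈ l, lo ≤ codeOf TT u ∧ codeOf TT u < hi ∧ Fn.applyW TT (conjW u) 0 = 0) ∧
      List.Pairwise (fun u u' => codeOf TT u < codeOf TT u') l ∧ lo ≤ hi := by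
  intro l
  induction l with
  | nil =>
    intro lo h
    exact ⟨fun u hu => absurd hu List.not_mem_nil, List.Pairwise.nil, Nat.le_of_ble_eq_true h⟩
  | cons u l ih =>
    intro lo h
    have e : conjChk TT hi (u :: l) lo = forceN (codeOf TT u) fun c =>
      cond (Nat.ble lo c && Nat.beq (Fn.applyW TT (conjW u) 0) 0) (conjChk TT hi l (Nat.succ c))
        false := rfl
    rw [e, forceN_eq] at h
    cases h1 : (Nat.ble lo (codeOf TT u) && Nat.beq (Fn.applyW TT (conjW u) 0) 0) with
    | false => rw [h1] at h; exact Bool.noConfusion h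
    | true =>
      rw [h1] at h
      rw [Bool.and_eq_true] at h1
      obtain ⟨h2, h3, h4⟩ := ih _ h
      have h5 : lo ≤ codeOf TT u := Nat.le_of_ble_eq_true h1.1
      refine ⟨?_, List.Pairwise.cons (fun u' hu' => (h2 u' hu').1) h3, by omega⟩
      intro u' hu'
      rcases List.mem_cons.mp hu' with rfl | hu'
      · exact ⟨h5, by omega, Nat.eq_of_beq_eq_true h1.2⟩
      · exact ⟨by have := (h2 u' hu').1; omega, (h2 u' hu').2⟩

/-- the check of a list of parts -/
def ChkAll (TT : ℕ → ℕ → ℕ) : List (ℕ × List (List ℕ)) → ℕ → Prop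
  | [], _ => True
  | c :: r, lo => conjChk TT c.1 c.2 lo = true ∧ ChkAll TT r c.1

theorem chkAll_spec (TT : ℕ → ℕ → ℕ) : ∀ (cs : List (ℕ × List (List ℕ))) (lo : ℕ), ChkAll TT cs lo →
    (∀ u ∈ cs.flatMap (fun c => c.2), lo ≤ codeOf TT u ∧ Fn.applyW TT (conjW u) 0 = 0) ∧
      List.Pairwise (fun u u' => codeOf TT u < codeOf TT u') (cs.flatMap (fun c => c.2)) := by
  intro cs
  induction cs with
  | nil => intro lo _; exact ⟨fun u hu => absurd hu List.not_mem_nil, List.Pairwise.nil⟩
  | cons c r ih =>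
    intro lo h
    obtain ⟨h1, h2⟩ := h
    obtain ⟨h3, h4, h5⟩ := conjChk_spec TT c.1 c.2 lo h1
    obtain ⟨h6, h7⟩ := ih c.1 h2
    rw [List.flatMap_cons]
    constructor
    · intro u hu
      rcases List.mem_append.mp hu with hu | hu
      · exact ⟨(h3 u hu).1, (h3 u hu).2.2⟩
      · exact ⟨by have := (h6 u hu).1; omega, (h6 u hu).2⟩
    · rw [List.pairwise_append]
      refine ⟨h4, h7, ?_⟩
      intro a ha b hb
      have := (h3 a ha).2.1
      have := (h6 b hb).1
      omega

end Cfsg.Agent.Lib.Helper12.HeZ
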