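import Cfsg.Agent.Lib.Helper28.TvC
import Cfsg.Agent.Lib.Lead.SLn

/-!
The centralizer of the transvection `1 + E₀₁` in `SL(5, 2)` is generated by the thirteen elementary
transvections it contains, and has order at least `21504` (helper12; uses the block matrices of helper28).
-/

set_option autoImplicit false

namespace Cfsg.Agent.Lib.Helper12.HeZ

open Matrix Cfsg.Agent.Lib.Helper28.Tv

/-- the elementary transvection `1 + E_ab` -/
def tv5 {a b : Fin (3 + 2)} (h : a ≠ b) : SLn2 3 := Matrix.SpecialLinearGroup.transvection h 1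

theorem tv5_coe {a b : Fin (3 + 2)} (h : a ≠ b) :
    ((tv5 h : SLn2 3) : Matrix (Fin (3 + 2)) (Fin (3 + 2)) R2) = Matrix.transvection a b 1 := rfl

theorem ss_ne (i j : Fin 3) (h : i ≠ j) : (i.succ.succ : Fin (3 + 2)) ≠ j.succ.succ := by
  intro h'
  exact h (Fin.succ_injective _ (Fin.succ_injective _ h'))

theorem zero_ne_ss (j : Fin 3) : (0 : Fin (3 + 2)) ≠ j.succ.succ := (Fin.succ_ne_zero _).symm

theorem ss_ne_one' (i : Fin 3) : (i.succ.succ : Fin (3 + 2)) ≠ 1 := ss_ne_one i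

theorem z0_eq : z0 3 = tv5 (a := 0) (b := 1) (by decide) := by
  apply Subtype.ext
  rw [z0_coe, tv5_coe]

theorem hsl_u (j : Fin 3) : hsl 0 (Pi.single j 1) 0 = tv5 (zero_ne_ss j) := by
  apply Subtype.ext
  rw [hsl_coe, tv5_coe]
  revert j
  decide

theorem hsl_v (i : Fin 3) : hsl 0 0 (Pi.single i 1) = tv5 (ss_ne_one' i) := by
  apply Subtype.ext
  rw [hsl_coe, tv5_coe]
  revert i
  decide

theorem esl_t (i j : Fin 3) (h : i ≠ j) :
    esl (Matrix.SpecialLinearGroup.transvection h 1) = tv5 (ss_ne i j h) := by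
  apply Subtype.ext
  rw [esl_coe, tv5_coe]
  show bmat 0 0 0 (Matrix.transvection i j 1) = _
  revert i j
  decide

/-- the thirteen generators -/
def gensD : Set (SLn2 3) :=
  {g | g = z0 3 ∨ (∃ j : Fin 3, g = tv5 (zero_ne_ss j)) ∨ (∃ i : Fin 3, g = tv5 (ss_ne_one' i)) ∨
    ∃ (i j : Fin 3) (h : i ≠ j), g = tv5 (ss_ne i j h)}

theorem gensD_le_Cz : gensD ⊆ (Cz 3 : Set (SLn2 3)) := by
  rintro g (rfl | ⟨j, rfl⟩ | ⟨i, rfl⟩ | ⟨i, j, h, rfl⟩)
  · exact hsl_mem_Cz 1 0 0
  · rw [← hsl_u]; exact hsl_mem_Cz _ _ _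
  · rw [← hsl_v]; exact hsl_mem_Cz _ _ _
  · rw [← esl_t i j h]; exact esl_mem_Cz _

theorem r2_cases' : ∀ c : R2, c = 0 ∨ c = 1 := by decide

theorem esl_mem_closure (A : SLn 3) : esl A ∈ Subgroup.closure gensD := by
  refine Cfsg.Agent.Lib.Lead.SL_transvection_induction (fun A => esl A ∈ Subgroup.closure gensD)
    ?_ ?_ A
  · intro i j h c
    rcases r2_cases' c with rfl | rfl
    · have : (Matrix.SpecialLinearGroup.transvection h (0 : R2)) = 1 := by
        apply Subtype.ext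
        simp [Matrix.SpecialLinearGroup.transvection, Matrix.transvection]
      rw [this]
      have h1 : esl (1 : SLn 3) = 1 := (eslHom 3).map_one
      rw [h1]
      exact Subgroup.one_mem _
    · rw [esl_t i j h]
      exact Subgroup.subset_closure (Or.inr (Or.inr (Or.inr ⟨i, j, h, rfl⟩)))
  · intro A B hA hB
    have h1 : esl (A * B) = esl A * esl B := (eslHom 3).map_mul A B
    rw [h1]
    exact Subgroup.mul_mem _ hA hB

theorem hsl_u_mem (u : Fin 3 → R2) : hsl 0 u 0 ∈ Subgroup.closure gensD := by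
  have key : ∀ (j : Fin 3) (c : R2), hsl 0 (Pi.single j c) 0 ∈ Subgroup.closure gensD := by
    intro j c
    rcases r2_cases' c with rfl | rfl
    · rw [Pi.single_zero, hsl_one]; exact Subgroup.one_mem _
    · rw [hsl_u]; exact Subgroup.subset_closure (Or.inr (Or.inl ⟨j, rfl⟩))
  have e : hsl 0 u 0 = hsl 0 (Pi.single 0 (u 0)) 0 * hsl 0 (Pi.single 1 (u 1)) 0 *
      hsl 0 (Pi.single 2 (u 2)) 0 := by
    rw [hsl_mul, hsl_mul]
    congr 1
    funext k
    fin_cases k <;> simp
  rw [e]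
  exact Subgroup.mul_mem _ (Subgroup.mul_mem _ (key 0 _) (key 1 _)) (key 2 _)

theorem hsl_v_mem (v : Fin 3 → R2) : hsl 0 0 v ∈ Subgroup.closure gensD := by
  have key : ∀ (j : Fin 3) (c : R2), hsl 0 0 (Pi.single j c) ∈ Subgroup.closure gensD := by
    intro j c
    rcases r2_cases' c with rfl | rfl
    · rw [Pi.single_zero, hsl_one]; exact Subgroup.one_mem _
    · rw [hsl_v]; exact Subgroup.subset_closure (Or.inr (Or.inr (Or.inl ⟨j, rfl⟩)))
  have e : hsl 0 0 v = hsl 0 0 (Pi.single 0 (v 0)) * hsl 0 0 (Pi.single 1 (v 1)) *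
      hsl 0 0 (Pi.single 2 (v 2)) := by
    rw [hsl_mul, hsl_mul]
    congr 1
    · simp
    · funext k
      fin_cases k <;> simp
  rw [e]
  exact Subgroup.mul_mem _ (Subgroup.mul_mem _ (key 0 _) (key 1 _)) (key 2 _)

theorem hsl_mem_closure (a : R2) (u v : Fin 3 → R2) : hsl a u v ∈ Subgroup.closure gensD := by
  have hz : ∀ c : R2, hsl (n := 3) c 0 0 ∈ Subgroup.closure gensD := by
    intro c
    rcases r2_cases' c with rfl | rfl
    · rw [hsl_one]; exact Subgroup.one_mem _
    · exact Subgroup.subset_closure (Or.inl rfl)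
  have e : hsl a u v = hsl (a + u ⬝ᵥ v) 0 0 * (hsl 0 u 0 * hsl 0 0 v) := by
    rw [hsl_mul, hsl_mul]
    congr 1
    · simp only [add_zero, zero_add, zero_dotProduct]
      have : a + u ⬝ᵥ v + u ⬝ᵥ v = a + (u ⬝ᵥ v + u ⬝ᵥ v) := by ring
      rw [this, r2_add_self, add_zero]
    · simp
    · simp
  rw [e]
  exact Subgroup.mul_mem _ (hz _) (Subgroup.mul_mem _ (hsl_u_mem u) (hsl_v_mem v))

/-- the centralizer is generated by the elementary transvections -/
theorem closure_gensD : Subgroup.closure gensD = Cz 3 := by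
  apply le_antisymm
  · rw [Subgroup.closure_le]; exact gensD_le_Cz
  · intro g hg
    set A : SLn 3 := piHom 3 ⟨g, hg⟩ with hA
    have h1 : (⟨g, hg⟩ * (⟨esl A, esl_mem_Cz A⟩ : ↥(Cz 3))⁻¹ : ↥(Cz 3)) ∈ (piHom 3).ker := by
      rw [MonoidHom.mem_ker, map_mul, map_inv, piHom_esl, ← hA, mul_inv_cancel]
    obtain ⟨a, u, v, h2⟩ := mem_ker_piHom.mp h1
    have h3 : g = hsl a u v * esl A := by
      have : g * (esl A)⁻¹ = hsl a u v := h2
      rw [← this, inv_mul_cancel_right]
    rw [h3]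
    exact Subgroup.mul_mem _ (hsl_mem_closure a u v) (esl_mem_closure A)

/-- the order of `SL(3, 2)` is at least `168` -/
theorem card_SL3_ge : 168 ≤ Nat.card (SLn 3) := by
  have h1 : Nat.card (GL (Fin 3) R2) = 168 := by
    rw [Matrix.card_GL_field, ZMod.card]
    decide
  rw [← h1]
  have hdet : ∀ x : R2, IsUnit x → x = 1 := by decide
  let f : GL (Fin 3) R2 → SLn 3 := fun A =>
    ⟨A.1, hdet _ ((Matrix.isUnit_iff_isUnit_det _).mp A.isUnit)⟩
  apply Nat.card_le_card_of_injective f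
  intro A B h
  apply Units.ext
  exact congrArg Subtype.val h

/-- the order of the centralizer is at least `21504` -/
theorem card_Cz_ge : 21504 ≤ Nat.card ↥(Cz 3) := by
  have h1 : Nat.card ↥(Cz 3) = Nat.card ↥(piHom 3).ker * Nat.card (SLn 3) := by
    rw [← Nat.card_congr (QuotientGroup.quotientKerEquivOfSurjective (piHom 3) piHom_surjective).toEquiv,
      mul_comm]
    exact Subgroup.card_eq_card_quotient_mul_card_subgroup _
  have h2 : Nat.card ↥(piHom 3).ker = 2 ^ (2 * 3 + 1) := by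
    rw [← card_Qs (n := 3), Qs_eq_map]
    exact (Subgroup.card_map_of_injective (Cz 3).subtype_injective).symm
  rw [h1, h2]
  have := card_SL3_ge
  omega

end Cfsg.Agent.Lib.Helper12.HeZ
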