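import Cfsg.Agent.Lib.Helper12.HeZ.ChkA
import Cfsg.Agent.Lib.Helper12.HeZ.Gens
import Cfsg.Agent.Lib.Helper12.TC.Hex4116.Main
import Cfsg.Agent.Lib.Helper12.U62.Gen

/-!
The centralizer of the involution `d` of the Held group: the relation between its elements and the
matrices of the centralizer of a transvection of `SL(5, 2)`, given by the action on an orbit of 2688 points
and on pairs of vectors (helper12).
-/

set_option autoImplicit false

namespace Cfsg.Agent.Lib.Helper12.HeZ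

open Matrix Cfsg.Spor Cfsg.Agent.Lib.Helper12.TC Cfsg.Agent.Lib.Helper12.TC.Hex4116
  Cfsg.Agent.Lib.Helper12.TC.HePres Cfsg.Agent.Lib.Helper28.Tv

/-- the relators -/
abbrev R : Set (FreeGroup He.Gen) := coxRelators He.edges ∪ {r | r ∈ He.extra}

/-- the generators -/
noncomputable def v (i : ℕ) : PresentedGroup R := PresentedGroup.mk R (FreeGroup.of (gen i))

/-- the permutation representation on 4116 points -/
noncomputable def rho : PresentedGroup R →* Equiv.Perm (Fin cN) := mainRho.choose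

theorem rho_v : ∀ x < 7, ∀ i : Fin cN, ((rho (v x) i : Fin cN) : ℕ) = TT x i := mainRho.choose_spec.1

theorem rho_trans (a : Fin cN) : ∃ g : PresentedGroup R, rho g ⟨0, hN0⟩ = a := by
  obtain ⟨Φ, hΦ⟩ := mainRho.choose_spec.2.2
  obtain ⟨q, hq⟩ := Φ.surjective a
  obtain ⟨g, rfl⟩ := QuotientGroup.mk_surjective q
  exact ⟨g, (hΦ g).symm.trans hq⟩

/-- the points of the orbit -/
def pt (i : ℕ) : Fin cN := Fn.ptOf hN0 (ptAt i)

theorem pt_val {i : ℕ} (hi : i < 2688) : (pt i).val = ptAt i :=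
  Fn.ptOf_val hN0 (ptAt_lt hpt hi)

theorem pt_inj {i j : ℕ} (hi : i < 2688) (hj : j < 2688) (h : pt i = pt j) : i = j := by
  have h1 := congrArg Fin.val h
  rw [pt_val hi, pt_val hj] at h1
  rcases Nat.lt_trichotomy i j with h2 | h2 | h2
  · have := ptAt_lt_of_lt hpt h2 hj; omega
  · exact h2
  · have := ptAt_lt_of_lt hpt h2 hi; omega

/-- the vector with the bits of `x` -/
def vecOf (x : ℕ) : Fin (3 + 2) → R2 := fun k => cond (bitK x k.val) 1 0

/-- the `i`-th pair of vectors -/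
def pairSet (i : ℕ) : Set (Fin (3 + 2) → R2) := {vecOf (xaAt i), vecOf (xbAt i)}

/-- an element of the group and a matrix act in the same way -/
def Compat (g : PresentedGroup R) (M : SLn2 3) : Prop :=
  ∀ i < 2688, ∃ j < 2688, rho g (pt i) = pt j ∧ (fun x => M.1 *ᵥ x) '' pairSet i = pairSet j

theorem compat_one : Compat 1 1 := by
  intro i hi
  refine ⟨i, hi, ?_, ?_⟩
  · rw [map_one]; rfl
  · simp

theorem compat_mul (g g' : PresentedGroup R) (M M' : SLn2 3) (h : Compat g M) (h' : Compat g' M') :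
    Compat (g * g') (M * M') := by
  intro i hi
  obtain ⟨j', hj', e1, e2⟩ := h' i hi
  obtain ⟨j, hj, e3, e4⟩ := h j' hj'
  refine ⟨j, hj, ?_, ?_⟩
  · rw [map_mul, Equiv.Perm.mul_apply, e1, e3]
  · rw [← e4, ← e2, Set.image_image]
    congr 1
    funext x
    rw [Matrix.SpecialLinearGroup.coe_mul, Matrix.mulVec_mulVec]

theorem compat_inv (g : PresentedGroup R) (M : SLn2 3) (h : Compat g M) : Compat g⁻¹ M⁻¹ := by
  classical
  choose f hf using fun (i : Fin 2688) => h i.val i.isLt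
  let F : Fin 2688 → Fin 2688 := fun i => ⟨f i, (hf i).1⟩
  have hinj : Function.Injective F := by
    intro i i' hii
    have h1 : f i = f i' := congrArg Fin.val hii
    have h2 : rho g (pt i.val) = rho g (pt i'.val) := by
      rw [(hf i).2.1, (hf i').2.1, h1]
    exact Fin.ext (pt_inj i.isLt i'.isLt ((rho g).injective h2))
  have hsurj : Function.Surjective F := Finite.injective_iff_surjective.mp hinj
  intro i hi
  obtain ⟨i', hi'⟩ := hsurj ⟨i, hi⟩
  have h1 : f i' = i := congrArg Fin.val hi'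
  obtain ⟨_, e1, e2⟩ := hf i'
  rw [h1] at e1 e2
  refine ⟨i'.val, i'.isLt, ?_, ?_⟩
  · rw [map_inv, Equiv.Perm.inv_eq_iff_eq, e1]
  · rw [← e2, Set.image_image]
    have : (fun x => (M⁻¹ : SLn2 3).1 *ᵥ (M.1 *ᵥ x)) = fun x => x := by
      funext x
      rw [Matrix.mulVec_mulVec, ← Matrix.SpecialLinearGroup.coe_mul, inv_mul_cancel,
        Matrix.SpecialLinearGroup.coe_one, Matrix.one_mulVec]
    rw [this, Set.image_id']

/-! ### uniqueness -/

theorem vecOf_ne : ∀ x y : Fin 32, x ≠ y → vecOf x.val ≠ vecOf y.val := by decide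

theorem fix_of_pairs (M : SLn2 3) (y p₁ p₂ : Fin 32) (i₁ i₂ : ℕ)
    (h₁ : pairSet i₁ = {vecOf y.val, vecOf p₁.val}) (h₂ : pairSet i₂ = {vecOf y.val, vecOf p₂.val})
    (hne : p₁ ≠ p₂)
    (hM₁ : (fun x => M.1 *ᵥ x) '' pairSet i₁ = pairSet i₁)
    (hM₂ : (fun x => M.1 *ᵥ x) '' pairSet i₂ = pairSet i₂) : M.1 *ᵥ vecOf y.val = vecOf y.val := by
  have m1 : M.1 *ᵥ vecOf y.val ∈ pairSet i₁ := by
    rw [← hM₁, h₁]; exact ⟨_, Or.inl rfl, rfl⟩
  have m2 : M.1 *ᵥ vecOf y.val ∈ pairSet i₂ := by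
    rw [← hM₂, h₂]; exact ⟨_, Or.inl rfl, rfl⟩
  rw [h₁] at m1
  rw [h₂] at m2
  rcases m1 with m1 | m1
  · exact m1
  · rcases m2 with m2 | m2
    · exact m2
    · exact absurd (m1.symm.trans m2) (vecOf_ne p₁ p₂ hne)

theorem pair_data : xaAt 18 = 2 ∧ xbAt 18 = 15 ∧ xaAt 22 = 2 ∧ xbAt 22 = 11 ∧
    xaAt 11 = 3 ∧ xbAt 11 = 14 ∧ xaAt 29 = 3 ∧ xbAt 29 = 15 ∧
    xaAt 0 = 6 ∧ xbAt 0 = 31 ∧ xaAt 9 = 6 ∧ xbAt 9 = 11 ∧
    xaAt 7 = 7 ∧ xbAt 7 = 10 ∧ xaAt 10 = 6 ∧ xbAt 10 = 10 ∧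
    xaAt 16 = 18 ∧ xbAt 16 = 30 ∧ xaAt 28 = 18 ∧ xbAt 28 = 31 := by decide +kernel

theorem vecOf_basis : vecOf 3 + vecOf 2 = Pi.single 0 1 ∧ vecOf 2 = Pi.single 1 1 ∧
    vecOf 6 + vecOf 2 = Pi.single 2 1 ∧ vecOf 10 + vecOf 2 = Pi.single 3 1 ∧
    vecOf 18 + vecOf 2 = Pi.single 4 1 := by decide

/-- an element acting as the identity on the orbit corresponds to the identity matrix only -/
theorem compat_uniq (M : SLn2 3) (h : Compat 1 M) : M ∈ (⊥ : Subgroup (SLn2 3)) := by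
  rw [Subgroup.mem_bot]
  have hfix : ∀ i < 2688, (fun x => M.1 *ᵥ x) '' pairSet i = pairSet i := by
    intro i hi
    obtain ⟨j, hj, e1, e2⟩ := h i hi
    rw [map_one] at e1
    have : i = j := pt_inj hi hj e1
    rw [this]
    rw [this] at e2
    exact e2
  obtain ⟨a18, b18, a22, b22, a11, b11, a29, b29, a0, b0, a9, b9, a7, b7, a10, b10, a16, b16, a28,
    b28⟩ := pair_data
  have f2 : M.1 *ᵥ vecOf 2 = vecOf 2 :=
    fix_of_pairs M 2 15 11 18 22 (by rw [pairSet, a18, b18]; rfl) (by rw [pairSet, a22, b22]; rfl)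
      (by decide) (hfix 18 (by omega)) (hfix 22 (by omega))
  have f3 : M.1 *ᵥ vecOf 3 = vecOf 3 :=
    fix_of_pairs M 3 14 15 11 29 (by rw [pairSet, a11, b11]; rfl) (by rw [pairSet, a29, b29]; rfl)
      (by decide) (hfix 11 (by omega)) (hfix 29 (by omega))
  have f6 : M.1 *ᵥ vecOf 6 = vecOf 6 :=
    fix_of_pairs M 6 31 11 0 9 (by rw [pairSet, a0, b0]; rfl) (by rw [pairSet, a9, b9]; rfl)
      (by decide) (hfix 0 (by omega)) (hfix 9 (by omega))
  have f10 : M.1 *ᵥ vecOf 10 = vecOf 10 :=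
    fix_of_pairs M 10 7 6 7 10 (by rw [pairSet, a7, b7, Set.pair_comm]; rfl)
      (by rw [pairSet, a10, b10, Set.pair_comm]; rfl)
      (by decide) (hfix 7 (by omega)) (hfix 10 (by omega))
  have f18 : M.1 *ᵥ vecOf 18 = vecOf 18 :=
    fix_of_pairs M 18 30 31 16 28 (by rw [pairSet, a16, b16]; rfl) (by rw [pairSet, a28, b28]; rfl)
      (by decide) (hfix 16 (by omega)) (hfix 28 (by omega))
  obtain ⟨e0, e1, e2, e3, e4⟩ := vecOf_basis
  have hcol : ∀ j : Fin (3 + 2), M.1 *ᵥ Pi.single j 1 = Pi.single j 1 := by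
    intro j
    fin_cases j
    · show M.1 *ᵥ Pi.single 0 1 = Pi.single 0 1
      rw [← e0, Matrix.mulVec_add, f3, f2]
    · show M.1 *ᵥ Pi.single 1 1 = Pi.single 1 1
      rw [← e1, f2]
    · show M.1 *ᵥ Pi.single 2 1 = Pi.single 2 1
      rw [← e2, Matrix.mulVec_add, f6, f2]
    · show M.1 *ᵥ Pi.single 3 1 = Pi.single 3 1
      rw [← e3, Matrix.mulVec_add, f10, f2]
    · show M.1 *ᵥ Pi.single 4 1 = Pi.single 4 1
      rw [← e4, Matrix.mulVec_add, f18, f2]
  apply Subtype.ext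
  rw [Matrix.SpecialLinearGroup.coe_one]
  ext i j
  have := congrFun (hcol j) i
  rw [Matrix.mulVec_single_one, Matrix.col_apply] at this
  rw [this, Matrix.one_apply, Pi.single_apply]

/-! ### the generators -/

theorem tvN_vecOf : ∀ (a b : Fin (3 + 2)) (x : Fin 32) (k : Fin (3 + 2)), a ≠ b →
    vecOf (tvN a.val b.val x.val) k = vecOf x.val k + (if k = a then vecOf x.val b else 0) := by
  decide

theorem tv_mulVec {a b : Fin (3 + 2)} (h : a ≠ b) (x : ℕ) (hx : x < 32) :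
    (tv5 h).1 *ᵥ vecOf x = vecOf (tvN a.val b.val x) := by
  rw [tv5_coe, Matrix.transvection, Matrix.add_mulVec, Matrix.one_mulVec, Matrix.single_mulVec]
  funext k
  have := tvN_vecOf a b ⟨x, hx⟩ k h
  rw [this, Pi.add_apply, Function.update_apply, one_mul]
  rfl

theorem xaAt_lt (i : ℕ) : xaAt i < 32 := by
  have : xaAt i ≤ 31 := Nat.and_le_right
  omega

theorem xbAt_lt (i : ℕ) : xbAt i < 32 := by
  have : xbAt i ≤ 31 := Nat.and_le_right
  omega

/-- from the check by evaluation to the relation -/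
theorem compat_of_check (w : List ℕ) {a b : Fin (3 + 2)} (hab : a ≠ b) (hw : ∀ s ∈ w, s < 7)
    (h : compatK TT w a.val b.val = true) : Compat (wprod v w) (tv5 hab) := by
  intro i hi
  obtain ⟨j, hj, e1, e2⟩ := compatK_spec h i hi
  refine ⟨j, hj, ?_, ?_⟩
  · apply Fin.ext
    rw [Fn.rho_word v rho rho_v w hw, pt_val hi, pt_val hj, e1]
  · rw [pairSet, Set.image_pair, tv_mulVec hab _ (xaAt_lt i), tv_mulVec hab _ (xbAt_lt i)]
    rcases e2 with ⟨e3, e4⟩ | ⟨e3, e4⟩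
    · rw [e3, e4]; rfl
    · rw [e3, e4, Set.pair_comm]; rfl

end Cfsg.Agent.Lib.Helper12.HeZ
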