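import Mathlib

/-!
Counting fixed points: an upper bound for the order of the centralizer of an element of a transitive
permutation group from conjugates of the element inside a point stabilizer (helper12).
-/

set_option autoImplicit false

namespace Cfsg.Agent.Lib.Helper12.HeZ

/-- Let `G` act transitively on `α` through `ρ`, let `z ∈ G` and let `S` be a set of conjugates of `z`
fixing the point `a0`. Then `|C_G(z)| * |S| * |α| ≤ |Fix(z)| * |G|`. -/
theorem card_centralizer_mul_le {G α : Type*} [Group G] [Finite G] [Fintype α] [DecidableEq α]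
    (ρ : G →* Equiv.Perm α) (a0 : α) (htr : ∀ a, ∃ g, ρ g a0 = a) (z : G)
    (S : Finset G) (hS : ∀ x ∈ S, (∃ g, x = g * z * g⁻¹) ∧ ρ x a0 = a0) :
    Nat.card (Subgroup.centralizer ({z} : Set G)) * S.card * Fintype.card α ≤
      (Finset.univ.filter fun a => ρ z a = a).card * Nat.card G := by
  classical
  have := Fintype.ofFinite G
  set f := (Finset.univ.filter fun a => ρ z a = a).card with hf
  let cls : Finset G := Finset.univ.filter fun x => ∃ g, x = g * z * g⁻¹
  -- the class and the centralizer
  have h1 : Nat.card (Subgroup.centralizer ({z} : Set G)) * cls.card = Nat.card G := by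
    rw [Subgroup.nat_card_centralizer_nat_card_stabilizer]
    have h2 := Subgroup.card_mul_index (MulAction.stabilizer (ConjAct G) z)
    rw [MulAction.index_stabilizer] at h2
    have h3 : (MulAction.orbit (ConjAct G) z) = (cls : Set G) := by
      ext x
      rw [ConjAct.mem_orbit_conjAct, isConj_comm, isConj_iff]
      simp only [cls, Finset.coe_filter, Finset.mem_univ, true_and, Set.mem_ofPred_eq]
      constructor
      · rintro ⟨c, hc⟩; exact ⟨c, hc.symm⟩
      · rintro ⟨c, hc⟩; exact ⟨c, hc.symm⟩
    rw [h3, Set.ncard_coe_finset] at h2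
    rw [h2]
    rfl
  -- double counting
  have h4 : ∑ x ∈ cls, ((Finset.univ : Finset α).bipartiteAbove (fun x a => ρ x a = a) x).card =
      ∑ a ∈ (Finset.univ : Finset α), (cls.bipartiteBelow (fun x a => ρ x a = a) a).card :=
    Finset.sum_card_bipartiteAbove_eq_sum_card_bipartiteBelow _
  have h5 : ∀ x ∈ cls, ((Finset.univ : Finset α).bipartiteAbove (fun x a => ρ x a = a) x).card = f := by
    intro x hx
    obtain ⟨g, rfl⟩ := (Finset.mem_filter.mp hx).2
    rw [hf]
    symm
    apply Finset.card_equiv (ρ g)
    intro a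
    simp only [Finset.bipartiteAbove, Finset.mem_filter, Finset.mem_univ, true_and]
    rw [map_mul, map_mul, map_inv, Equiv.Perm.mul_apply, Equiv.Perm.mul_apply, Equiv.Perm.inv_def,
      Equiv.symm_apply_apply]
    exact (ρ g).injective.eq_iff.symm
  have h6 : ∀ a ∈ (Finset.univ : Finset α), S.card ≤ (cls.bipartiteBelow (fun x a => ρ x a = a) a).card := by
    intro a _
    obtain ⟨g, rfl⟩ := htr a
    apply Finset.card_le_card_of_injOn (fun x => g * x * g⁻¹)
    · intro x hx
      obtain ⟨⟨h, rfl⟩, hfix⟩ := hS x hx
      simp only [Finset.bipartiteBelow, Finset.coe_filter, Set.mem_ofPred_eq, cls, Finset.mem_filter,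
        Finset.mem_univ, true_and]
      refine ⟨⟨g * h, by simp [mul_assoc]⟩, ?_⟩
      rw [map_mul, map_mul, map_inv, Equiv.Perm.mul_apply, Equiv.Perm.mul_apply,
        Equiv.Perm.inv_def, Equiv.symm_apply_apply, hfix]
    · intro x _ y _ hxy
      simpa using hxy
  rw [Finset.sum_congr rfl h5, Finset.sum_const, smul_eq_mul] at h4
  have h7 : (Finset.univ : Finset α).card * S.card ≤ cls.card * f := by
    rw [h4, ← smul_eq_mul, ← Finset.sum_const]
    exact Finset.sum_le_sum h6
  calc Nat.card (Subgroup.centralizer ({z} : Set G)) * S.card * Fintype.card α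
      = Nat.card (Subgroup.centralizer ({z} : Set G)) * ((Finset.univ : Finset α).card * S.card) := by
        rw [Finset.card_univ]; ring
    _ ≤ Nat.card (Subgroup.centralizer ({z} : Set G)) * (cls.card * f) := Nat.mul_le_mul_left _ h7
    _ = f * Nat.card G := by rw [← h1]; ring

end Cfsg.Agent.Lib.Helper12.HeZ
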