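import Cfsg.Agent.Lib.Helper12.HeZ.Compat
import Cfsg.Agent.Lib.Helper12.HeZ.Count
import Cfsg.Agent.Lib.Helper12.HeZ.ChkB
import Cfsg.Agent.Lib.Helper12.HeZ.ChkC0
import Cfsg.Agent.Lib.Helper12.HeZ.ChkC1
import Cfsg.Agent.Lib.Helper12.HeZ.ChkC2
import Cfsg.Agent.Lib.Helper12.HeZ.ChkC3
import Cfsg.Agent.Lib.Helper12.Ord.HeSimple

/-!
The centralizer of the involution `d` of the Held group is isomorphic to the centralizer of a transvection
of `SL(5, 2)` (helper12).
-/

set_option autoImplicit false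

namespace Cfsg.Agent.Lib.Helper12.HeZ

open Matrix Cfsg.Spor Cfsg.Agent.Lib.Helper12.TC Cfsg.Agent.Lib.Helper12.TC.Hex4116
  Cfsg.Agent.Lib.Helper12.TC.HePres Cfsg.Agent.Lib.Helper28.Tv Cfsg.Agent.Lib.Helper12.Ord

instance finite_G : Finite (PresentedGroup R) := HeOrder.finite

theorem card_G : Nat.card (PresentedGroup R) = 4030387200 := HeOrder.card_eq

theorem hvsq : ∀ s, v s * v s = 1 := HeSimple.hvsq

/-- the involution -/
noncomputable def z : PresentedGroup R := v 3

theorem rho_z_ne : rho z ≠ 1 := by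
  intro h
  have h1 := rho_v 3 (by decide) ⟨7, by decide⟩
  rw [show v 3 = z from rfl, h] at h1
  have h2 : TT 3 7 ≠ 7 := by decide +kernel
  exact h2 h1.symm

theorem rho_injective : Function.Injective rho := by
  have hs : IsSimpleGroup (PresentedGroup R) := HeSimple.isSimpleGroup
  rw [← MonoidHom.ker_eq_bot_iff]
  rcases (MonoidHom.normal_ker rho).eq_bot_or_eq_top with h | h
  · exact h
  · exfalso
    apply rho_z_ne
    have : z ∈ rho.ker := by rw [h]; trivial
    exact this

theorem orderOf_z : orderOf z = 2 := by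
  apply orderOf_eq_prime
  · rw [pow_two]; exact hvsq 3
  · intro h
    apply rho_z_ne
    rw [h, map_one]

/-! ### the upper bound for the centralizer -/

theorem hconjLet : allListK conjAll (fun u => allListK u (fun s => Nat.blt s 7)) = true := by
  decide +kernel

theorem conj_lt {u : List ℕ} (hu : u ∈ conjAll) : ∀ s ∈ conjW u, s < 7 := by
  have h1 := (allListK_iff conjAll _).mp hconjLet u hu
  have h2 : ∀ s ∈ u, s < 7 := fun s hs => Nat.le_of_ble_eq_true ((allListK_iff u _).mp h1 s hs)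
  intro s hs
  unfold conjW at hs
  rcases List.mem_append.mp hs with hs | hs
  · exact h2 s (List.mem_reverse.mp hs)
  · rcases List.mem_cons.mp hs with rfl | hs
    · decide
    · exact h2 s hs

theorem code_eq {u : List ℕ} (hu : u ∈ conjAll) :
    codeOf TT u = 4116 * (rho (wprod v (conjW u)) ⟨1, by decide⟩ : Fin cN).val +
      (rho (wprod v (conjW u)) ⟨50, by decide⟩ : Fin cN).val := by
  rw [Fn.rho_word v rho rho_v _ (conj_lt hu), Fn.rho_word v rho rho_v _ (conj_lt hu)]
  rfl

theorem conj_spec : (∀ u ∈ conjAll, Fn.applyW TT (conjW u) 0 = 0) ∧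
    List.Pairwise (fun u u' => codeOf TT u < codeOf TT u') conjAll := by
  obtain ⟨h1, h2⟩ := chkAll_spec TT conjParts 0 hconjAll
  exact ⟨fun u hu => (h1 u hu).2, h2⟩

open scoped Classical in
theorem card_centralizer_le : Nat.card ↥(Subgroup.centralizer ({z} : Set (PresentedGroup R))) ≤ 21504 := by
  let f : List ℕ → PresentedGroup R := fun u => wprod v (conjW u)
  have hnd : (conjAll.map f).Nodup := by
    rw [List.nodup_iff_pairwise_ne, List.pairwise_map]
    have h3 : ∀ u ∈ conjAll, ∀ u' ∈ conjAll, codeOf TT u < codeOf TT u' → f u ≠ f u' := by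
      intro u hu u' hu' hlt heq
      rw [code_eq hu, code_eq hu'] at hlt
      have : wprod v (conjW u) = wprod v (conjW u') := heq
      rw [this] at hlt
      exact lt_irrefl _ hlt
    have h4 := conj_spec.2
    rw [List.pairwise_iff_forall_sublist] at h4 ⊢
    intro a b hab
    have ha : a ∈ conjAll := hab.subset (by simp)
    have hb : b ∈ conjAll := hab.subset (by simp)
    exact h3 a ha b hb (h4 hab)
  let S : Finset (PresentedGroup R) := (conjAll.map f).toFinset
  have hScard : S.card = 3825 := by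
    rw [List.toFinset_card_of_nodup hnd, List.length_map, hconjLen]
  have hS : ∀ x ∈ S, (∃ g, x = g * z * g⁻¹) ∧ rho x ⟨0, hN0⟩ = ⟨0, hN0⟩ := by
    intro x hx
    obtain ⟨u, hu, rfl⟩ := List.mem_map.mp (List.mem_toFinset.mp hx)
    constructor
    · refine ⟨(wprod v u)⁻¹, ?_⟩
      show wprod v (u.reverse ++ 3 :: u) = _
      rw [wprod_conj_word v hvsq, inv_inv]
      rfl
    · apply Fin.ext
      rw [Fn.rho_word v rho rho_v _ (conj_lt hu)]
      exact conj_spec.1 u hu
  have hcount := card_centralizer_mul_le rho ⟨0, hN0⟩ rho_trans z S hS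
  have hfix : (Finset.univ.filter fun a : Fin cN => rho z a = a).card ≤ 84 := by
    have hsub : (Finset.univ.filter fun a : Fin cN => rho z a = a) ⊆
        (fixL.map (Fn.ptOf hN0)).toFinset := by
      intro a ha
      rw [Finset.mem_filter] at ha
      have h1 : TT 3 a.val = a.val := by
        rw [← rho_v 3 (by decide) a]
        exact congrArg Fin.val ha.2
      have h2 := fixK_spec hfix a.val a.isLt h1
      rw [List.mem_toFinset, List.mem_map]
      exact ⟨a.val, h2, Fn.ptOf_of_val hN0 a⟩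
    calc _ ≤ (fixL.map (Fn.ptOf hN0)).toFinset.card := Finset.card_le_card hsub
      _ ≤ (fixL.map (Fn.ptOf hN0)).length := List.toFinset_card_le _
      _ = 84 := by rw [List.length_map]; decide
  rw [hScard, card_G, Fintype.card_fin] at hcount
  have h5 : (Finset.univ.filter fun a : Fin cN => rho z a = a).card * 4030387200 ≤ 84 * 4030387200 :=
    Nat.mul_le_mul_right _ hfix
  have h6 : cN = 4116 := rfl
  have h7 : Nat.card ↥(Subgroup.centralizer ({z} : Set (PresentedGroup R))) * 3825 * cN =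
      Nat.card ↥(Subgroup.centralizer ({z} : Set (PresentedGroup R))) * 3825 * 4116 :=
    congrArg (fun n => Nat.card ↥(Subgroup.centralizer ({z} : Set (PresentedGroup R))) * 3825 * n) h6
  rw [h7] at hcount
  clear h7 h6 hS hScard hnd
  generalize Nat.card ↥(Subgroup.centralizer ({z} : Set (PresentedGroup R))) = c at hcount ⊢
  generalize (Finset.univ.filter fun a : Fin cN => rho z a = a).card = t at hcount hfix h5
  omega

/-! ### the generators of the centralizer -/

theorem genW_lt : ∀ k, ∀ s ∈ genW.getD k [], s < 7 := by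
  intro k
  by_cases hk : k < genW.length
  · have h : ∀ k < genW.length, ∀ s ∈ genW.getD k [], s < 7 := by decide
    exact h k hk
  · rw [List.getD_eq_default _ _ (by omega)]
    intro s hs
    exact absurd hs List.not_mem_nil

/-- the matrices of the generators -/
def genD : ℕ → SLn2 3
  | 0 => tv5 (a := 0) (b := 1) (by decide)
  | 1 => tv5 (a := 0) (b := 2) (by decide)
  | 2 => tv5 (a := 0) (b := 3) (by decide)
  | 3 => tv5 (a := 0) (b := 4) (by decide)
  | 4 => tv5 (a := 2) (b := 1) (by decide)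
  | 5 => tv5 (a := 3) (b := 1) (by decide)
  | 6 => tv5 (a := 4) (b := 1) (by decide)
  | 7 => tv5 (a := 2) (b := 3) (by decide)
  | 8 => tv5 (a := 2) (b := 4) (by decide)
  | 9 => tv5 (a := 3) (b := 2) (by decide)
  | 10 => tv5 (a := 3) (b := 4) (by decide)
  | 11 => tv5 (a := 4) (b := 2) (by decide)
  | 12 => tv5 (a := 4) (b := 3) (by decide)
  | _ => 1

/-- the generators of the centralizer -/
noncomputable def genC (k : ℕ) : PresentedGroup R := wprod v (genW.getD k [])

theorem compat_gen (k : ℕ) (hk : k < 13) : Compat (genC k) (genD k) := by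
  interval_cases k
  · exact compat_of_check _ _ (genW_lt 0) hcompat0
  · exact compat_of_check _ _ (genW_lt 1) hcompat1
  · exact compat_of_check _ _ (genW_lt 2) hcompat2
  · exact compat_of_check _ _ (genW_lt 3) hcompat3
  · exact compat_of_check _ _ (genW_lt 4) hcompat4
  · exact compat_of_check _ _ (genW_lt 5) hcompat5
  · exact compat_of_check _ _ (genW_lt 6) hcompat6
  · exact compat_of_check _ _ (genW_lt 7) hcompat7
  · exact compat_of_check _ _ (genW_lt 8) hcompat8
  · exact compat_of_check _ _ (genW_lt 9) hcompat9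
  · exact compat_of_check _ _ (genW_lt 10) hcompat10
  · exact compat_of_check _ _ (genW_lt 11) hcompat11
  · exact compat_of_check _ _ (genW_lt 12) hcompat12

theorem gensD_sub : ∀ g ∈ gensD, ∃ k < 13, g = genD k := by
  rintro g (rfl | ⟨j, rfl⟩ | ⟨i, rfl⟩ | ⟨i, j, h, rfl⟩)
  · exact ⟨0, by omega, z0_eq⟩
  · fin_cases j
    · exact ⟨1, by omega, rfl⟩
    · exact ⟨2, by omega, rfl⟩
    · exact ⟨3, by omega, rfl⟩
  · fin_cases i
    · exact ⟨4, by omega, rfl⟩
    · exact ⟨5, by omega, rfl⟩
    · exact ⟨6, by omega, rfl⟩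
  · fin_cases i <;> fin_cases j
    · exact absurd rfl h
    · exact ⟨7, by omega, rfl⟩
    · exact ⟨8, by omega, rfl⟩
    · exact ⟨9, by omega, rfl⟩
    · exact absurd rfl h
    · exact ⟨10, by omega, rfl⟩
    · exact ⟨11, by omega, rfl⟩
    · exact ⟨12, by omega, rfl⟩
    · exact absurd rfl h

theorem comm_of_check (k : ℕ)
    (h0 : Fn.eqWordsK TT (genW.getD k [] ++ [3]) (3 :: genW.getD k []) 0 1029 = true)
    (h1 : Fn.eqWordsK TT (genW.getD k [] ++ [3]) (3 :: genW.getD k []) 1029 1029 = true)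
    (h2 : Fn.eqWordsK TT (genW.getD k [] ++ [3]) (3 :: genW.getD k []) 2058 1029 = true)
    (h3 : Fn.eqWordsK TT (genW.getD k [] ++ [3]) (3 :: genW.getD k []) 3087 1029 = true) :
    genC k * z = z * genC k := by
  have e := Fn.wordsEq_step h3 (by rfl) (Fn.wordsEq_step h2 (by rfl) (Fn.wordsEq_step h1 (by rfl)
    (Fn.wordsEq_step h0 (by rfl) (Fn.wordsEq_start TT _ _))))
  have hl1 : allListK (genW.getD k [] ++ [3]) (fun s => Nat.blt s 7) = true := by
    rw [allListK_iff]
    intro s hs
    rcases List.mem_append.mp hs with hs | hs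
    · exact Nat.ble_eq_true_of_le (genW_lt k s hs)
    · rw [List.mem_singleton] at hs; subst hs; rfl
  have hl2 : allListK (3 :: genW.getD k []) (fun s => Nat.blt s 7) = true := by
    rw [allListK_iff]
    intro s hs
    rcases List.mem_cons.mp hs with rfl | hs
    · rfl
    · exact Nat.ble_eq_true_of_le (genW_lt k s hs)
  have h4 := Fn.rho_wprod_eq rho TT v 7 rho_v hl1 hl2 e
  have h5 := rho_injective h4
  rw [wprod_append, wprod_cons, wprod_cons, wprod_nil, mul_one] at h5
  exact h5

theorem comm_gen (k : ℕ) (hk : k < 13) : genC k * z = z * genC k := by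
  interval_cases k
  · exact comm_of_check 0 hcomm0_0 hcomm0_1 hcomm0_2 hcomm0_3
  · exact comm_of_check 1 hcomm1_0 hcomm1_1 hcomm1_2 hcomm1_3
  · exact comm_of_check 2 hcomm2_0 hcomm2_1 hcomm2_2 hcomm2_3
  · exact comm_of_check 3 hcomm3_0 hcomm3_1 hcomm3_2 hcomm3_3
  · exact comm_of_check 4 hcomm4_0 hcomm4_1 hcomm4_2 hcomm4_3
  · exact comm_of_check 5 hcomm5_0 hcomm5_1 hcomm5_2 hcomm5_3
  · exact comm_of_check 6 hcomm6_0 hcomm6_1 hcomm6_2 hcomm6_3
  · exact comm_of_check 7 hcomm7_0 hcomm7_1 hcomm7_2 hcomm7_3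
  · exact comm_of_check 8 hcomm8_0 hcomm8_1 hcomm8_2 hcomm8_3
  · exact comm_of_check 9 hcomm9_0 hcomm9_1 hcomm9_2 hcomm9_3
  · exact comm_of_check 10 hcomm10_0 hcomm10_1 hcomm10_2 hcomm10_3
  · exact comm_of_check 11 hcomm11_0 hcomm11_1 hcomm11_2 hcomm11_3
  · exact comm_of_check 12 hcomm12_0 hcomm12_1 hcomm12_2 hcomm12_3

/-- the subgroup generated by the thirteen elements -/
noncomputable def C0 : Subgroup (PresentedGroup R) := Subgroup.closure {g | ∃ k < 13, g = genC k}

theorem C0_le : C0 ≤ Subgroup.centralizer ({z} : Set (PresentedGroup R)) := by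
  unfold C0
  rw [Subgroup.closure_le]
  rintro g ⟨k, hk, rfl⟩
  rw [SetLike.mem_coe, Subgroup.mem_centralizer_iff]
  intro x hx
  rw [Set.mem_singleton_iff] at hx
  subst hx
  exact (comm_gen k hk).symm

theorem exists_compat : ∀ h ∈ C0, ∃ M : SLn2 3, Compat h M := by
  intro h hh
  refine Subgroup.closure_induction (p := fun h _ => ∃ M : SLn2 3, Compat h M) ?_ ?_ ?_ ?_ hh
  · rintro _ ⟨k, hk, rfl⟩
    exact ⟨_, compat_gen k hk⟩
  · exact ⟨1, compat_one⟩
  · rintro x y _ _ ⟨M, hM⟩ ⟨M', hM'⟩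
    exact ⟨M * M', compat_mul _ _ _ _ hM hM'⟩
  · rintro x _ ⟨M, hM⟩
    exact ⟨M⁻¹, compat_inv _ _ hM⟩

/-- the isomorphism -/
theorem nonempty_iso : Nonempty (↥(Subgroup.centralizer ({z} : Set (PresentedGroup R))) ≃* ↥(Cz 3)) := by
  obtain ⟨Θ₀, hΘ₀⟩ := Cfsg.Agent.Lib.Helper12.U62.exists_hom_of_compat C0 (⊥ : Subgroup (SLn2 3))
    Compat compat_mul compat_inv compat_uniq exists_compat
  let Θ : ↥C0 →* SLn2 3 := (QuotientGroup.quotientBot (G := SLn2 3)).toMonoidHom.comp Θ₀
  have hΘ : ∀ (h : ↥C0) (M : SLn2 3), Compat (h : PresentedGroup R) M → Θ h = M := by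
    intro h M hM
    show QuotientGroup.quotientBot (Θ₀ h) = M
    rw [hΘ₀ h M hM]
    rfl
  have hgen : ∀ k < 13, genD k ∈ Θ.range := by
    intro k hk
    exact ⟨⟨genC k, Subgroup.subset_closure ⟨k, hk, rfl⟩⟩, hΘ _ _ (compat_gen k hk)⟩
  have hle : Cz 3 ≤ Θ.range := by
    rw [← closure_gensD, Subgroup.closure_le]
    intro g hg
    obtain ⟨k, hk, rfl⟩ := gensD_sub g hg
    exact hgen k hk
  have hfin : Finite (SLn2 3) := inferInstance
  have c1 : Nat.card ↥(Cz 3) ≤ Nat.card ↥Θ.range := Subgroup.card_le_of_le hle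
  have c2 : Nat.card ↥Θ.range ≤ Nat.card ↥C0 :=
    Nat.card_le_card_of_surjective Θ.rangeRestrict Θ.rangeRestrict_surjective
  have c3 : Nat.card ↥C0 ≤ Nat.card ↥(Subgroup.centralizer ({z} : Set (PresentedGroup R))) :=
    Subgroup.card_le_of_le C0_le
  have c4 := card_centralizer_le
  have c5 := card_Cz_ge
  have e1 : C0 = Subgroup.centralizer ({z} : Set (PresentedGroup R)) :=
    Subgroup.eq_of_le_of_card_ge C0_le (by omega)
  have e2 : Cz 3 = Θ.range := Subgroup.eq_of_le_of_card_ge hle (by omega)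
  have hbij : Function.Bijective Θ.rangeRestrict :=
    (Θ.rangeRestrict_surjective).bijective_of_nat_card_le (by omega)
  exact ⟨(MulEquiv.subgroupCongr e1.symm).trans ((MulEquiv.ofBijective _ hbij).trans
    (MulEquiv.subgroupCongr e2.symm))⟩

end Cfsg.Agent.Lib.Helper12.HeZ
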